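import Mathlib

/-!
# The magic square for chosen pullbacks
-/

set_option autoImplicit false
universe u
open CategoryTheory CategoryTheory.Limits

namespace Groth.Agent.H53.ElemSep

/-- Index type for covers with four pieces. -/
inductive Four : Type u
  | uu | uv | vu | vv

variable {C : Type*} [Category C] [HasPullbacks C]

/-- For `α : A ⟶ X`, `β : B ⟶ X` and `g : X ⟶ Y`, the canonical map `A ×_X B ⟶ A ×_Y B` is the base
change of the diagonal of `g` along `A ×_Y B ⟶ X ×_Y X`; version for arbitrary pullback squares. -/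
theorem isPullback_diagonal_of_isPullback {A B X Y PX PY : C} (α : A ⟶ X) (β : B ⟶ X) (g : X ⟶ Y)
    {pX : PX ⟶ A} {qX : PX ⟶ B} (hPX : IsPullback pX qX α β)
    {pY : PY ⟶ A} {qY : PY ⟶ B} (hPY : IsPullback pY qY (α ≫ g) (β ≫ g))
    (c : PX ⟶ PY) (hc₁ : c ≫ pY = pX) (hc₂ : c ≫ qY = qX)
    (e : PY ⟶ pullback g g) (he₁ : e ≫ pullback.fst g g = pY ≫ α)
    (he₂ : e ≫ pullback.snd g g = qY ≫ β) :
    IsPullback (pX ≫ α) c (pullback.diagonal g) e := by
  have w : (pX ≫ α) ≫ pullback.diagonal g = c ≫ e := by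
    apply pullback.hom_ext
    · rw [Category.assoc, Category.assoc, pullback.diagonal_fst, Category.comp_id,
        Category.assoc, he₁, ← Category.assoc, hc₁]
    · rw [Category.assoc, Category.assoc, pullback.diagonal_snd, Category.comp_id,
        Category.assoc, he₂, ← Category.assoc, hc₂, hPX.w]
  have hs1 : ∀ s : PullbackCone (pullback.diagonal g) e, s.fst = s.snd ≫ pY ≫ α := by
    intro s
    have := s.condition =≫ pullback.fst g g
    rw [Category.assoc, Category.assoc, pullback.diagonal_fst, Category.comp_id, he₁] at this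
    exact this
  have hs2 : ∀ s : PullbackCone (pullback.diagonal g) e, s.fst = s.snd ≫ qY ≫ β := by
    intro s
    have := s.condition =≫ pullback.snd g g
    rw [Category.assoc, Category.assoc, pullback.diagonal_snd, Category.comp_id, he₂] at this
    exact this
  have hs : ∀ s : PullbackCone (pullback.diagonal g) e, (s.snd ≫ pY) ≫ α = (s.snd ≫ qY) ≫ β := by
    intro s
    rw [Category.assoc, Category.assoc, ← hs1 s, ← hs2 s]
  refine ⟨⟨w⟩, ⟨PullbackCone.IsLimit.mk w
    (fun s => hPX.lift (s.snd ≫ pY) (s.snd ≫ qY) (hs s)) ?_ ?_ ?_⟩⟩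
  · intro s
    rw [← Category.assoc, hPX.lift_fst, Category.assoc, ← hs1 s]
  · intro s
    apply hPY.hom_ext
    · rw [Category.assoc, hc₁, hPX.lift_fst]
    · rw [Category.assoc, hc₂, hPX.lift_snd]
  · intro s m hm1 hm2
    apply hPX.hom_ext
    · rw [hPX.lift_fst, ← hc₁, ← Category.assoc, hm2]
    · rw [hPX.lift_snd, ← hc₂, ← Category.assoc, hm2]

end Groth.Agent.H53.ElemSep
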