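import Groth.Agent.H53.ElemSep.Pieces
import Groth.Agent.S10534
import Groth.Agent.H52.FppfFpqc

/-!
# Separatedness from an elementary distinguished square
-/

set_option autoImplicit false
universe u
open CategoryTheory CategoryTheory.Limits AlgebraicGeometry Opposite

namespace Groth.Agent.H53.ElemSep

open AlgSp

variable {S : Scheme.{u}}

/-- The two members of an elementary distinguished square cover the points. -/
theorem mem_range_or_of_isElemDistSq {U V W : Sp S} {j : U ⟶ W} {f : V ⟶ W}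
    (hsq : IsElemDistSq j f) (x : Points W) :
    x ∈ Set.range (Points.map j) ∨ x ∈ Set.range (Points.map f) := by
  obtain ⟨-, -, T, P, i, p₁, p₂, hred, hsqT, hiso⟩ := hsq
  by_cases hx : x ∈ Set.range (Points.map j)
  · exact Or.inl hx
  · right
    have hx' : x ∈ Set.range (Points.map i) := by
      rw [hred.2.1]
      exact hx
    obtain ⟨t, rfl⟩ := hx'
    have : IsIso p₁ := hiso
    refine ⟨Points.map p₂ (Points.map (inv p₁) t), ?_⟩
    rw [← Points.map_comp, ← Points.map_comp, ← hsqT.w, IsIso.inv_hom_id_assoc]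

/-- **S10698.** -/
theorem s10698 {U V X Y PX PY QX QY : AlgSp.Space S} (g : X ⟶ Y)
    (j : U ⟶ X) (f : V ⟶ X) (hsq : IsElemDistSq j.hom f.hom)
    (hU : IsSeparatedMor (j ≫ g).hom) (_hV : IsSeparatedMor (f ≫ g).hom)
    (pX : PX ⟶ U) (qX : PX ⟶ V) (hPX : IsPullback pX.hom qX.hom j.hom f.hom)
    (pY : PY ⟶ U) (qY : PY ⟶ V) (hPY : IsPullback pY.hom qY.hom (j ≫ g).hom (f ≫ g).hom)
    (c : PX ⟶ PY) (hc₁ : c ≫ pY = pX) (hc₂ : c ≫ qY = qX) (hcl : IsClosedMor c.hom)
    (rX₁ rX₂ : QX ⟶ V) (hQX : IsPullback rX₁.hom rX₂.hom f.hom f.hom)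
    (rY₁ rY₂ : QY ⟶ V) (hQY : IsPullback rY₁.hom rY₂.hom (f ≫ g).hom (f ≫ g).hom)
    (d : QX ⟶ QY) (hd₁ : d ≫ rY₁ = rX₁) (hd₂ : d ≫ rY₂ = rX₂)
    (hdcl : RepWith @IsClosedImmersion d.hom) : IsSeparatedMor g.hom := by
  have hj : RepWith @IsOpenImmersion j.hom := hsq.1
  have hjet : IsEtaleMor j.hom := Groth.Agent.H53.isEtaleMor_of_isOpenImmersion j.hom hj
  have hfet : IsEtaleMor f.hom := hsq.2.1
  have hjmono : Mono j.hom := Groth.Agent.H53.mono_of_isOpenImmersion j.hom hj
  have hc₁' : c.hom ≫ pY.hom = pX.hom := congrArg (fun φ => φ.hom) hc₁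
  have hc₂' : c.hom ≫ qY.hom = qX.hom := congrArg (fun φ => φ.hom) hc₂
  have hd₁' : d.hom ≫ rY₁.hom = rX₁.hom := congrArg (fun φ => φ.hom) hd₁
  have hd₂' : d.hom ≫ rY₂.hom = rX₂.hom := congrArg (fun φ => φ.hom) hd₂
  have hPY' : IsPullback pY.hom qY.hom (j.hom ≫ g.hom) (f.hom ≫ g.hom) := hPY
  have hQY' : IsPullback rY₁.hom rY₂.hom (f.hom ≫ g.hom) (f.hom ≫ g.hom) := hQY
  have sqUU : IsPullback (pullback.fst (j.hom ≫ g.hom) (j.hom ≫ g.hom))
      (pullback.snd (j.hom ≫ g.hom) (j.hom ≫ g.hom)) (j.hom ≫ g.hom) (j.hom ≫ g.hom) :=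
    IsPullback.of_hasPullback _ _
  have sqXX : IsPullback (pullback.fst g.hom g.hom) (pullback.snd g.hom g.hom) g.hom g.hom :=
    IsPullback.of_hasPullback _ _
  have hXX : IsAlgSpace (pullback g.hom g.hom) :=
    Groth.Agent.H49.isAlgSpace_of_isPullback sqXX Y.property.diag X.property X.property
  have hUU : IsAlgSpace (pullback (j.hom ≫ g.hom) (j.hom ≫ g.hom)) :=
    Groth.Agent.H49.isAlgSpace_of_isPullback sqUU Y.property.diag U.property U.property
  -- the four pieces
  let Yi : Four.{u} → Sp S := fun i =>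
    match i with
    | .uu => pullback (j.hom ≫ g.hom) (j.hom ≫ g.hom)
    | .uv => PY.obj
    | .vu => PY.obj
    | .vv => QY.obj
  let ei : ∀ i, Yi i ⟶ pullback g.hom g.hom := fun i =>
    match i with
    | .uu => pullback.lift (pullback.fst _ _ ≫ j.hom) (pullback.snd _ _ ≫ j.hom) (by
        rw [Category.assoc, Category.assoc]; exact sqUU.w)
    | .uv => pullback.lift (pY.hom ≫ j.hom) (qY.hom ≫ f.hom) (by
        rw [Category.assoc, Category.assoc]; exact hPY'.w)
    | .vu => pullback.lift (qY.hom ≫ f.hom) (pY.hom ≫ j.hom) (by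
        rw [Category.assoc, Category.assoc]; exact hPY'.w.symm)
    | .vv => pullback.lift (rY₁.hom ≫ f.hom) (rY₂.hom ≫ f.hom) (by
        rw [Category.assoc, Category.assoc]; exact hQY'.w)
  let Xi : Four.{u} → Sp S := fun i =>
    match i with
    | .uu => U.obj
    | .uv => PX.obj
    | .vu => PX.obj
    | .vv => QX.obj
  let pi : ∀ i, Xi i ⟶ Yi i := fun i =>
    match i with
    | .uu => pullback.diagonal (j.hom ≫ g.hom)
    | .uv => c.hom
    | .vu => c.hom
    | .vv => d.hom
  let qi : ∀ i, Xi i ⟶ X.obj := fun i =>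
    match i with
    | .uu => j.hom
    | .uv => pX.hom ≫ j.hom
    | .vu => qX.hom ≫ f.hom
    | .vv => rX₁.hom ≫ f.hom
  have hYi : ∀ i, IsAlgSpace (Yi i) := by
    rintro (_ | _ | _ | _)
    · exact hUU
    · exact PY.property
    · exact PY.property
    · exact QY.property
  have hXi : ∀ i, IsAlgSpace (Xi i) := by
    rintro (_ | _ | _ | _)
    · exact U.property
    · exact PX.property
    · exact PX.property
    · exact QX.property
  -- etaleness and surjectivity
  have het_uu := isEtaleMor_prodMap U.property U.property X.property Y.property j.hom j.hom g.hom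
    hjet hjet sqUU (ei .uu) (pullback.lift_fst _ _ _) (pullback.lift_snd _ _ _)
  have het_uv := isEtaleMor_prodMap U.property V.property X.property Y.property j.hom f.hom g.hom
    hjet hfet hPY' (ei .uv) (pullback.lift_fst _ _ _) (pullback.lift_snd _ _ _)
  have het_vu := isEtaleMor_prodMap V.property U.property X.property Y.property f.hom j.hom g.hom
    hfet hjet hPY'.flip (ei .vu) (pullback.lift_fst _ _ _) (pullback.lift_snd _ _ _)
  have het_vv := isEtaleMor_prodMap V.property V.property X.property Y.property f.hom f.hom g.hom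
    hfet hfet hQY' (ei .vv) (pullback.lift_fst _ _ _) (pullback.lift_snd _ _ _)
  have het : ∀ i, IsEtaleMor (ei i) := by
    rintro (_ | _ | _ | _)
    · exact het_uu.1
    · exact het_uv.1
    · exact het_vu.1
    · exact het_vv.1
  have hcov : IsFpqcCover Yi ei := by
    have hgood := fun i => Groth.Agent.H52.Induct.good_of_isEtaleMor (ei i) (het i)
    refine ⟨fun i => (hgood i).1, ?_⟩
    refine Groth.Agent.H52.fpqcRefine_of_isFppfCover hXX Yi hYi ei ⟨hgood, fun z => ?_⟩
    rcases mem_range_or_of_isElemDistSq hsq (Points.map (pullback.fst g.hom g.hom) z) with h1 | h1 <;>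
    rcases mem_range_or_of_isElemDistSq hsq (Points.map (pullback.snd g.hom g.hom) z) with h2 | h2
    · exact ⟨.uu, het_uu.2 z h1 h2⟩
    · exact ⟨.uv, het_uv.2 z h1 h2⟩
    · exact ⟨.vu, het_vu.2 z h1 h2⟩
    · exact ⟨.vv, het_vv.2 z h1 h2⟩
  -- the base change squares
  have hsqs : ∀ i, IsPullback (qi i) (pi i) (pullback.diagonal g.hom) (ei i) := by
    rintro (_ | _ | _ | _)
    · have h0 : IsPullback (𝟙 U.obj) (𝟙 U.obj) j.hom j.hom := IsKernelPair.id_of_mono j.hom
      have := isPullback_diagonal_of_isPullback j.hom j.hom g.hom h0 sqUU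
        (pullback.diagonal (j.hom ≫ g.hom)) (pullback.diagonal_fst _) (pullback.diagonal_snd _)
        (ei .uu) (pullback.lift_fst _ _ _) (pullback.lift_snd _ _ _)
      rw [Category.id_comp] at this
      exact this
    · exact isPullback_diagonal_of_isPullback j.hom f.hom g.hom hPX hPY' c.hom hc₁' hc₂'
        (ei .uv) (pullback.lift_fst _ _ _) (pullback.lift_snd _ _ _)
    · exact isPullback_diagonal_of_isPullback f.hom j.hom g.hom hPX.flip hPY'.flip c.hom hc₂' hc₁'
        (ei .vu) (pullback.lift_fst _ _ _) (pullback.lift_snd _ _ _)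
    · exact isPullback_diagonal_of_isPullback f.hom f.hom g.hom hQX hQY' d.hom hd₁' hd₂'
        (ei .vv) (pullback.lift_fst _ _ _) (pullback.lift_snd _ _ _)
  -- the pieces are closed immersions
  have hcci : RepWith @IsClosedImmersion c.hom := by
    have hqX : RepWith @IsOpenImmersion qX.hom := MorphismProperty.of_isPullback hPX hj
    have hqY : IsSeparatedMor qY.hom := Groth.Agent.H53.ZMT.isSeparatedMor_of_isPullback hPY hU
    exact repWith_isClosedImmersion_of_open_of_separated c.hom qX.hom qY.hom hc₂' hqX hqY hcl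
  have hpieces : ∀ i, RepWith @IsClosedImmersion (pi i) := by
    rintro (_ | _ | _ | _)
    · exact hU
    · exact hcci
    · exact hcci
    · exact hdcl
  exact (Groth.Agent.S10534.result S Yi ei hXX hYi hcov (pullback.diagonal g.hom) X.property Xi pi qi
    hXi hsqs).2 hpieces

end Groth.Agent.H53.ElemSep
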