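import Groth.Agent.H53.ElemSep.Magic
import Groth.Agent.H53.LocalST
import Groth.Agent.H53.LargestOpenInst
import Groth.Agent.H53.ZMT.SpLemmas
import Groth.Agent.H52.Induct
import Groth.Agent.H49.AlgSpRep

/-!
# Pieces of the diagonal over an étale cover of the source
-/

set_option autoImplicit false
universe u
open CategoryTheory CategoryTheory.Limits AlgebraicGeometry Opposite

namespace Groth.Agent.H53.ElemSep

open AlgSp

variable {S : Scheme.{u}}

/-- A representable immersion with closed image on points is a closed immersion. -/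
theorem repWith_isClosedImmersion_of_isImmersion {F G : Sp S} (c : F ⟶ G)
    (hc : RepWith @IsImmersion c) (hcl : IsClosed (Set.range (Points.map c))) :
    RepWith @IsClosedImmersion c := by
  refine ⟨hc.1, fun T W t fst snd sq => ?_⟩
  have himm : IsImmersion snd.left := hc.2 t fst snd sq
  have hrange : Set.range snd.left = Points.ofPt t ⁻¹' Set.range (Points.map c) := by
    ext x
    constructor
    · rintro ⟨w, rfl⟩
      refine ⟨Points.ofPt fst w, ?_⟩
      rw [Points.map_ofPt, sq.w, ofPt_yon_map_comp]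
    · rintro ⟨z, hz⟩
      obtain ⟨p, -, hp2⟩ := exists_point_of_isPullback sq z (Points.ofScheme T x)
        (by rw [hz, ← Points.ofPt_eq_map_ofScheme])
      obtain ⟨w, rfl⟩ := (Points.schemeEquiv W).surjective p
      refine ⟨w, ?_⟩
      apply (Points.schemeEquiv T).injective
      exact (Points.map_yon_map_apply snd w).symm.trans hp2
  have hclosed : IsClosed (Set.range snd.left) := by
    rw [hrange]
    exact hcl.preimage (Points.continuous_ofPt t)
  exact IsClosedImmersion.of_isPreimmersion snd.left hclosed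

/-- **The graph argument.** A morphism `c : PX ⟶ PY` over `V` from an open subspace of `V` to a
space separated over `V` is an immersion; if it is closed on points it is a closed immersion. -/
theorem repWith_isClosedImmersion_of_open_of_separated {PX PY V : Sp S} (c : PX ⟶ PY)
    (qX : PX ⟶ V) (qY : PY ⟶ V) (hc : c ≫ qY = qX) (hqX : RepWith @IsOpenImmersion qX)
    (hqY : IsSeparatedMor qY) (hcl : IsClosedMap (Points.map c)) :
    RepWith @IsClosedImmersion c := by
  -- the graph
  let G : Sp S := pullback qX qY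
  let g₁ : G ⟶ PX := pullback.fst qX qY
  let g₂ : G ⟶ PY := pullback.snd qX qY
  have sqG : IsPullback g₁ g₂ qX qY := IsPullback.of_hasPullback _ _
  let Γ : PX ⟶ G := pullback.lift (𝟙 PX) c (by rw [Category.id_comp, hc])
  have hΓ₁ : Γ ≫ g₁ = 𝟙 PX := pullback.lift_fst _ _ _
  have hΓ₂ : Γ ≫ g₂ = c := pullback.lift_snd _ _ _
  have sqG' : IsPullback g₁ g₂ (c ≫ qY) (𝟙 PY ≫ qY) := by
    rw [hc, Category.id_comp]
    exact sqG
  have sq0 : IsPullback (𝟙 PX) c c (𝟙 PY) := IsPullback.of_horiz_isIso ⟨by simp⟩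
  let e : G ⟶ pullback qY qY := pullback.lift (g₁ ≫ c) (g₂ ≫ 𝟙 PY) (by
    rw [Category.assoc, Category.assoc, Category.id_comp, hc]
    exact sqG.w)
  have magic : IsPullback (𝟙 PX ≫ c) Γ (pullback.diagonal qY) e :=
    isPullback_diagonal_of_isPullback c (𝟙 PY) qY sq0 sqG' Γ hΓ₁ hΓ₂ e
      (pullback.lift_fst _ _ _) (pullback.lift_snd _ _ _)
  have hΓ : RepWith @IsClosedImmersion Γ := MorphismProperty.of_isPullback magic hqY
  have hg₂ : RepWith @IsOpenImmersion g₂ := MorphismProperty.of_isPullback sqG hqX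
  have himm : RepWith @IsImmersion c := by
    rw [← hΓ₂]
    refine (RepWith @IsImmersion).comp_mem _ _
      (Groth.Agent.H53.repWith_mono (fun _ _ k hk => ?_) Γ hΓ)
      (Groth.Agent.H53.repWith_mono (fun _ _ k hk => ?_) g₂ hg₂)
    · have : IsClosedImmersion k := hk
      exact (inferInstance : IsImmersion k)
    · have : IsOpenImmersion k := hk
      exact (inferInstance : IsImmersion k)
  exact repWith_isClosedImmersion_of_isImmersion c himm hcl.isClosed_range

/-- For etale `α : A ⟶ X`, `β : B ⟶ X` the map `A ×_Y B ⟶ X ×_Y X` is etale, and it hits every point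
whose two projections are in the images of `α` and `β`. -/
theorem isEtaleMor_prodMap {A B X Y PY : Sp S} (hA : IsAlgSpace A) (hB : IsAlgSpace B)
    (hX : IsAlgSpace X) (hY : IsAlgSpace Y) (α : A ⟶ X) (β : B ⟶ X) (g : X ⟶ Y)
    (hα : IsEtaleMor α) (hβ : IsEtaleMor β) {pY : PY ⟶ A} {qY : PY ⟶ B}
    (hPY : IsPullback pY qY (α ≫ g) (β ≫ g)) (e : PY ⟶ pullback g g)
    (he₁ : e ≫ pullback.fst g g = pY ≫ α) (he₂ : e ≫ pullback.snd g g = qY ≫ β) :
    IsEtaleMor e ∧ ∀ z : Points (pullback g g),
      (∃ a, Points.map α a = Points.map (pullback.fst g g) z) →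
      (∃ b, Points.map β b = Points.map (pullback.snd g g) z) →
      ∃ p : Points PY, Points.map e p = z := by
  let M : Sp S := pullback g (β ≫ g)
  let m₁ : M ⟶ X := pullback.fst g (β ≫ g)
  let m₂ : M ⟶ B := pullback.snd g (β ≫ g)
  have sqM : IsPullback m₁ m₂ g (β ≫ g) := IsPullback.of_hasPullback _ _
  have sqXX : IsPullback (pullback.fst g g) (pullback.snd g g) g g := IsPullback.of_hasPullback _ _
  have hM : IsAlgSpace M := Groth.Agent.H49.isAlgSpace_of_isPullback sqM hY.diag hX hB
  have hXX : IsAlgSpace (pullback g g) :=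
    Groth.Agent.H49.isAlgSpace_of_isPullback sqXX hY.diag hX hX
  let e' : PY ⟶ M := sqM.lift (pY ≫ α) qY (by rw [Category.assoc]; exact hPY.w)
  have he'1 : e' ≫ m₁ = pY ≫ α := sqM.lift_fst _ _ _
  have he'2 : e' ≫ m₂ = qY := sqM.lift_snd _ _ _
  have sq' : IsPullback e' pY m₁ α := by
    refine IsPullback.of_right ?_ he'1 sqM.flip
    rw [he'2]
    exact hPY.flip
  let e'' : M ⟶ pullback g g := pullback.lift m₁ (m₂ ≫ β) (by rw [Category.assoc]; exact sqM.w)
  have he''1 : e'' ≫ pullback.fst g g = m₁ := pullback.lift_fst _ _ _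
  have he''2 : e'' ≫ pullback.snd g g = m₂ ≫ β := pullback.lift_snd _ _ _
  have sq'' : IsPullback e'' m₂ (pullback.snd g g) β := by
    refine IsPullback.of_right ?_ he''2 sqXX
    rw [he''1]
    exact sqM
  have hee : e = e' ≫ e'' := by
    apply pullback.hom_ext
    · rw [he₁, Category.assoc, he''1, he'1]
    · rw [he₂, Category.assoc, he''2, ← Category.assoc, he'2]
  have het' : IsEtaleMor e' := Groth.Agent.H53.isEtaleMor_of_isPullback hA hX hM sq'.flip hα
  have het'' : IsEtaleMor e'' := Groth.Agent.H53.isEtaleMor_of_isPullback hB hX hXX sq''.flip hβ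
  refine ⟨hee ▸ Groth.Agent.H52.Induct.isEtaleMor_comp het' het'', ?_⟩
  rintro z ⟨a, ha⟩ ⟨b, hb⟩
  obtain ⟨m, hm1, hm2⟩ := exists_point_of_isPullback sq'' z b hb.symm
  have hma : Points.map m₁ m = Points.map α a := by
    rw [← he''1, Points.map_comp, hm1, ha]
  obtain ⟨p, hp1, -⟩ := exists_point_of_isPullback sq' m a hma
  refine ⟨p, ?_⟩
  rw [hee, Points.map_comp, hp1, hm1]

end Groth.Agent.H53.ElemSep
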